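import Groth.Agent.Etdl.H435.Defs
import Groth.Agent.Etbc.H227.BrDvr
import Groth.Agent.Etbc.H187.PI
import Groth.Agent.EtpbcA.CdExact
import Mathlib.RingTheory.MvPowerSeries.Rename
import Mathlib.RingTheory.LaurentSeries

/-! `cd K((x)) ≤ 1` for `K` algebraically closed of characteristic zero. -/

set_option autoImplicit false
universe u
open CategoryTheory CategoryTheory.Limits AlgebraicGeometry Opposite IsLocalRing TensorProduct
open Groth.Agent.Etdl.H435.Defs

namespace Groth.Agent.Etdl.H530.SXZero

/-- `cd K((x)) ≤ 1`. -/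
theorem cohDimLE_laurent (K : Type u) [Field K] [IsAlgClosed K] [CharZero K] :
    EtCoh.CohDimLE (Spec (CommRingCat.of (LaurentSeries K))) 1 := by
  have h1 := Groth.Agent.Etbc.H187.PI.henselian_powerSeries K
  have h2 : IsAlgClosed (ResidueField (PowerSeries K)) :=
    IsAlgClosed.of_ringEquiv _ _ (Groth.Agent.Etbc.H187.PI.residueEquiv K)
  have h3 : CharZero (LaurentSeries K) :=
    charZero_of_injective_algebraMap (algebraMap K (LaurentSeries K)).injective
  exact Groth.Agent.Etbc.H227.BrDvr.cohDimLE_one (PowerSeries K) (LaurentSeries K)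

/-- `K[[x]][1/x] ≅ K((x))`. -/
noncomputable def awayEquiv (K : Type u) [Field K] :
    Localization.Away (MvPowerSeries.X 0 : MvPowerSeries (Fin 1) K) ≃+* LaurentSeries K := by
  let e0 : MvPowerSeries (Fin 1) K ≃ₐ[K] MvPowerSeries Unit K :=
    MvPowerSeries.renameEquiv (R := K) (Equiv.ofUnique (Fin 1) Unit)
  let e : MvPowerSeries (Fin 1) K ≃+* PowerSeries K := e0.toRingEquiv
  have he : e (MvPowerSeries.X 0) = PowerSeries.X := by
    change e0 (MvPowerSeries.X 0) = MvPowerSeries.X ()
    simp [e0]
  exact IsLocalization.ringEquivOfRingEquiv (M := Submonoid.powers (MvPowerSeries.X 0 : MvPowerSeries (Fin 1) K))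
    (T := Submonoid.powers (PowerSeries.X : PowerSeries K)) _ _ e (by
      rw [Submonoid.map_powers]
      exact congrArg _ he)

theorem SX_zero : SX.{u} 0 := by
  intro K _ _ _
  exact Groth.Agent.EtpbcA.CdExact.cohDimLE_of_iso
    (Scheme.Spec.mapIso (awayEquiv K).toCommRingCatIso.op) 1 (cohDimLE_laurent K)

end Groth.Agent.Etdl.H530.SXZero
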